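import Groth.Agent.ProperFin.PnBase
import Groth.Agent.ProjMor.ChartIdeal

/-!
# Eliminating one variable along a linear form

For a nonzero linear form `ℓ` in `n + 2` variables over a field, a surjective graded homomorphism
`k[X_0, …, X_{n+1}] → k[Y_0, …, Y_n]` with kernel `(ℓ)`, and the kernel of the induced maps on
homogeneous localisations at degree one elements.
-/

set_option autoImplicit false
set_option linter.style.haveILetI false
set_option backward.isDefEq.respectTransparency false

universe u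

open MvPolynomial HomogeneousLocalization DirectSum AlgebraicGeometry
open scoped HomogeneousIdeal

noncomputable section

namespace Groth.Agent.HyperP

variable {k : Type u} [Field k] {n : ℕ}

/-- A linear form is the combination of the variables with its coefficients. -/
theorem eq_sum_linear (ℓ : MvPolynomial (Fin (n + 1)) k) (h : ℓ.IsHomogeneous 1) :
    ℓ = ∑ i, C (coeff (Finsupp.single i 1) ℓ) * X i := by
  classical
  refine MvPolynomial.ext _ _ fun m => ?_
  simp only [coeff_sum, coeff_C_mul, coeff_X']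
  by_cases hm : m.degree = 1
  · obtain ⟨i, rfl⟩ : ∃ i, m = Finsupp.single i 1 := by
      rw [Finsupp.degree_eq_sum] at hm
      obtain ⟨i, hi⟩ : ∃ i, m i ≠ 0 := by
        by_contra h'
        push Not at h'
        simp [h'] at hm
      refine ⟨i, Finsupp.ext fun l => ?_⟩
      have h2 := Finset.add_sum_erase Finset.univ (fun a => m a) (Finset.mem_univ i)
      by_cases hl : l = i
      · subst hl; simp; omega
      · have h3 := Finset.single_le_sum (f := fun a => m a) (fun a _ => Nat.zero_le _)
          (Finset.mem_erase.mpr ⟨hl, Finset.mem_univ l⟩)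
        simp [hl]; omega
    rw [Finset.sum_eq_single i]
    · simp
    · intro b _ hb
      have : ¬ Finsupp.single b 1 = Finsupp.single i 1 := fun e =>
        hb ((Finsupp.single_left_inj one_ne_zero).mp e)
      simp [this]
    · simp
  · rw [h.coeff_eq_zero hm]
    refine (Finset.sum_eq_zero fun i _ => ?_).symm
    have : ¬ Finsupp.single i 1 = m := fun e => hm (e ▸ Finsupp.degree_single i 1)
    simp [this]

/-- The elimination homomorphism. -/
theorem exists_elim (ℓ : MvPolynomial (Fin (n + 2)) k) (hℓ : ℓ ∈ CohB1.polyGrading (n + 1) k 1)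
    (h0 : ℓ ≠ 0) :
    ∃ θ : CohB1.polyGrading (n + 1) k →+*ᵍ CohB1.polyGrading n k,
      Function.Surjective θ ∧ RingHom.ker θ = Ideal.span {ℓ} ∧
      (∀ c, θ (C c) = C c) ∧ (CohB1.polyGrading n k)₊ ≤ (CohB1.polyGrading (n + 1) k)₊.map θ := by
  classical
  have hlin := eq_sum_linear ℓ ((mem_homogeneousSubmodule _ _).mp hℓ)
  let c : Fin (n + 2) → k := fun i => coeff (Finsupp.single i 1) ℓ
  obtain ⟨j, hj⟩ : ∃ j, c j ≠ 0 := by
    by_contra h
    push Not at h
    refine h0 (hlin.trans (Finset.sum_eq_zero fun i _ => ?_))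
    rw [show coeff (Finsupp.single i 1) ℓ = 0 from h i, map_zero, zero_mul]
  let v : Fin (n + 2) → MvPolynomial (Fin (n + 1)) k :=
    Fin.insertNth j (-C (c j)⁻¹ * ∑ i, C (c (j.succAbove i)) * X i) X
  have hv : ∀ i, (v i).IsHomogeneous 1 := by
    intro i
    induction i using Fin.succAboveCases j with
    | x =>
      rw [show v j = _ from Fin.insertNth_apply_same j _ _, ← map_neg]
      exact (IsHomogeneous.sum _ _ _ fun i _ => (isHomogeneous_X k i).C_mul _).C_mul _
    | p i =>
      rw [show v (j.succAbove i) = _ from Fin.insertNth_apply_succAbove j _ _ i]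
      exact isHomogeneous_X k i
  let θ : CohB1.polyGrading (n + 1) k →+*ᵍ CohB1.polyGrading n k :=
    { toRingHom := (aeval v).toRingHom
      map_mem := fun {i} {p} hp => (mem_homogeneousSubmodule _ _).mpr (by
        simpa using ((mem_homogeneousSubmodule _ _).mp hp).aeval v hv) }
  let ρ : MvPolynomial (Fin (n + 1)) k →ₐ[k] MvPolynomial (Fin (n + 2)) k :=
    aeval fun i => X (j.succAbove i)
  have hθ : ∀ p, θ p = aeval v p := fun p => rfl
  have hθρ : ∀ p, θ (ρ p) = p := fun p => by
    have : (aeval v).comp ρ = AlgHom.id k _ := MvPolynomial.algHom_ext fun i => by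
      simp [ρ, v, Fin.insertNth_apply_succAbove]
    exact AlgHom.congr_fun this p
  have hℓθ : θ ℓ = 0 := by
    have hc : C (c j) * C (c j)⁻¹ = (1 : MvPolynomial (Fin (n + 1)) k) := by
      rw [← map_mul, mul_inv_cancel₀ hj, map_one]
    rw [hθ, congrArg (aeval v) hlin, map_sum, Fin.sum_univ_succAbove _ j]
    simp only [map_mul, aeval_C, aeval_X, MvPolynomial.algebraMap_eq]
    simp only [v, Fin.insertNth_apply_same, Fin.insertNth_apply_succAbove]
    change C (c j) * (-C (c j)⁻¹ * _) + ∑ i, C (c (j.succAbove i)) * X i = 0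
    rw [← mul_assoc, mul_neg, hc]
    ring
  refine ⟨θ, fun p => ⟨ρ p, hθρ p⟩, le_antisymm (fun p hp => ?_) ?_, fun a => by simp [hθ], ?_⟩
  · let π := Ideal.Quotient.mkₐ k (Ideal.span {ℓ})
    have hπ : π ℓ = 0 := Ideal.Quotient.eq_zero_iff_mem.mpr (Ideal.mem_span_singleton_self ℓ)
    have e : π = π.comp (ρ.comp (aeval v)) := by
      refine MvPolynomial.algHom_ext fun i => ?_
      induction i using Fin.succAboveCases j with
      | x =>
        replace hπ := (congrArg π hlin).symm.trans hπ
        rw [map_sum, Fin.sum_univ_succAbove _ j] at hπ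
        simp only [map_mul] at hπ
        simp only [AlgHom.comp_apply, aeval_X, v, Fin.insertNth_apply_same, map_mul, map_neg, map_sum,
          ρ, aeval_C, MvPolynomial.algebraMap_eq]
        have hc : π (C (c j)⁻¹) * π (C (c j)) = 1 := by
          rw [← map_mul, ← map_mul, inv_mul_cancel₀ hj, map_one, map_one]
        linear_combination (π (C (c j)⁻¹)) * hπ - π (X j) * hc
      | p i =>
        simp [AlgHom.comp_apply, v, ρ, Fin.insertNth_apply_succAbove]
    refine Ideal.Quotient.eq_zero_iff_mem.mp (?_ : π p = 0)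
    rw [e]
    show π (ρ (aeval v p)) = 0
    have hp' : aeval v p = 0 := hp
    rw [hp', map_zero, map_zero]
  · rw [Ideal.span_le, Set.singleton_subset_iff]
    exact hℓθ
  · rw [← toIdeal_le_toIdeal_iff, HomogeneousIdeal.toIdeal_irrelevant_le]
    intro i hi p hp
    show p ∈ ((CohB1.polyGrading (n + 1) k)₊.map θ).toIdeal
    rw [← hθρ p]
    refine Ideal.mem_map_of_mem _ (HomogeneousIdeal.mem_irrelevant_of_mem _ hi ?_)
    refine (mem_homogeneousSubmodule _ _).mpr ?_
    have := ((mem_homogeneousSubmodule _ _).mp hp).aeval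
      (fun l => (X (j.succAbove l) : MvPolynomial (Fin (n + 2)) k))
      (fun l => isHomogeneous_X k (j.succAbove l))
    rw [one_mul] at this
    exact this

variable {A B : Type u} [CommRing A] [CommRing B] {σ τ : Type u} [SetLike σ A]
  [AddSubgroupClass σ A] [SetLike τ B] [AddSubgroupClass τ B] {𝒜 : ℕ → σ} {ℬ : ℕ → τ}
  [GradedRing 𝒜] [GradedRing ℬ]

/-- If the kernel of a graded map is generated by a degree one element `ℓ`, the kernel on the chart
of a degree one element `t` is generated by `ℓ / t`. -/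
theorem ker_away_map (θ : 𝒜 →+*ᵍ ℬ) {ℓ : A} (hℓ : ℓ ∈ 𝒜 1)
    (hker : RingHom.ker θ = Ideal.span {ℓ}) {t : A} (ht : t ∈ 𝒜 1)
    (hℓ' : ℓ ∈ 𝒜 (1 • 1)) :
    RingHom.ker (Away.map θ t) = Ideal.span {Away.mk 𝒜 ht 1 ℓ hℓ'} := by
  classical
  refine le_antisymm (fun z hz => ?_) ?_
  · obtain ⟨d, a, ha, rfl⟩ := Away.mk_surjective 𝒜 ht z
    have h1 := congrArg HomogeneousLocalization.val (RingHom.mem_ker.mp hz)
    rw [Away.map_mk, Away.val_mk, val_zero, ← Localization.mk_zero 1, Localization.mk_eq_mk_iff,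
      Localization.r_iff_exists] at h1
    obtain ⟨⟨_, m, rfl⟩, hm⟩ := h1
    have h2 : t ^ (m + 1) * a ∈ Ideal.span {ℓ} := by
      rw [← hker, RingHom.mem_ker]
      show θ (t ^ (m + 1) * a) = 0
      have hm' : θ t ^ m * θ a = 0 := by simpa using hm
      rw [map_mul, map_pow, pow_succ, mul_right_comm, hm', zero_mul]
    obtain ⟨b, hb⟩ := Ideal.mem_span_singleton'.mp h2
    let b' : A := (decompose 𝒜 b (m + d) : A)
    have hmem : t ^ (m + 1) * a ∈ 𝒜 (1 + (m + d)) := by
      have h := SetLike.mul_mem_graded (A := 𝒜) (SetLike.pow_mem_graded (m + 1) ht) ha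
      convert h using 2
      simp only [smul_eq_mul, mul_one]; omega
    have hb' : ℓ * b' = t ^ (m + 1) * a := by
      have h3 := coe_decompose_mul_add_of_left_mem 𝒜 (b := b) hℓ (j := m + d)
      rw [mul_comm ℓ b, hb, decompose_of_mem_same _ hmem] at h3
      exact h3.symm
    have hb'' : b' ∈ 𝒜 ((m + d) • 1) := by
      rw [smul_eq_mul, mul_one]; exact SetLike.coe_mem _
    have hprod : ℓ * b' ∈ 𝒜 ((1 + (m + d)) • 1) := by
      rw [add_smul]; exact SetLike.mul_mem_graded hℓ' hb''
    have e : Away.mk 𝒜 ht d a ha =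
        Away.mk 𝒜 ht 1 ℓ hℓ' * Away.mk 𝒜 ht (m + d) b' hb'' := by
      rw [ProjMor.mk_mul_mk hprod]
      refine ProjMor.mk_congr ?_
      rw [hb']; ring
    rw [e]
    exact Ideal.mul_mem_right _ _ (Ideal.mem_span_singleton_self _)
  · rw [Ideal.span_le, Set.singleton_subset_iff]
    show Away.map θ t (Away.mk 𝒜 ht 1 ℓ hℓ') = 0
    have h : θ ℓ = 0 := (hker.ge (Ideal.mem_span_singleton_self ℓ) : ℓ ∈ RingHom.ker θ)
    rw [Away.map_mk]
    apply HomogeneousLocalization.val_injective
    rw [Away.val_mk, val_zero]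
    simp only [h, Localization.mk_zero]

end Groth.Agent.HyperP

end
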