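import Groth.Agent.HyperP.Sections
import Groth.Agent.HyperP.Linear
import Groth.Agent.ZeroSchemeLib.Basic
import Groth.Agent.RelProjLib.ProjMap
import Mathlib.AlgebraicGeometry.Morphisms.ClosedImmersion

/-!
# Hyperplanes in projective space
-/

set_option autoImplicit false
set_option linter.style.haveILetI false
set_option backward.isDefEq.respectTransparency false
set_option backward.isDefEq.respectTransparency.types false

universe u

open CategoryTheory CategoryTheory.Limits AlgebraicGeometry TopologicalSpace Opposite HomogeneousLocalization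

noncomputable section

namespace Groth.Agent.HyperP

open Groth.Agent.QCoh Groth.Agent.Props.GenLocus Groth.Agent.Props.GenPull Groth.Agent.ProjMorph
open Groth.Agent.ProjTwist

variable {R A B : Type u} [CommRing R] [CommRing A] [Algebra R A] [CommRing B] [Algebra R B]
  {𝒜 : ℕ → Submodule R A} [GradedAlgebra 𝒜] {ℬ : ℕ → Submodule R B} [GradedAlgebra ℬ]

/-- `Proj.map` on ratios. -/
theorem appLE_ratio (θ : 𝒜 →+*ᵍ ℬ)
    (hθ : HomogeneousIdeal.irrelevant ℬ ≤ (HomogeneousIdeal.irrelevant 𝒜).map θ) {a b : A}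
    (ha : a ∈ 𝒜 1) (hb : b ∈ 𝒜 1) :
    (Proj.map θ hθ).app (Proj.basicOpen 𝒜 a) (ratio ha hb) = ratio (θ.2 ha) (θ.2 hb) := by
  have h : b ∈ 𝒜 (1 • 1) := by rw [one_smul]; exact hb
  rw [← awayToSection_mk_one ha hb h, ← awayToSection_mk_one (θ.2 ha) (θ.2 hb)
    (by rw [one_smul]; exact θ.2 hb), Scheme.Hom.app_eq_appLE]
  have h1 := congrArg (fun q => q.hom (Away.mk 𝒜 ha 1 b h)) (Proj.awayToSection_comp_appLE θ hθ ha)
  simp only [CommRingCat.hom_comp, RingHom.coe_comp, Function.comp_apply, CommRingCat.hom_ofHom,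
    Away.map_mk] at h1
  exact h1

/-- The transition functions of the frames of `O(1)`. -/
theorem res_frame {a b : A} (ha : a ∈ 𝒜 1) (hb : b ∈ 𝒜 1) {V : (Proj 𝒜).Opens}
    (h₁ : V ≤ Proj.basicOpen 𝒜 a) (h₂ : V ≤ Proj.basicOpen 𝒜 b) :
    res (Twist.twist 𝒜 1) h₂ (frame hb) = rres h₁ (ratio ha hb) • res (Twist.twist 𝒜 1) h₁ (frame ha) := by
  have e1 := congrArg (res (Twist.twist 𝒜 1) h₂) (res_gsec hb hb)
  have e2 := congrArg (res (Twist.twist 𝒜 1) h₁) (res_gsec ha hb)
  rw [res_res, ratio_self, one_smul] at e1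
  rw [res_res, res_smul] at e2
  exact e1.symm.trans e2

/-- The pullback of `O(1)` along `Proj.map` is `O(1)`. -/
theorem nonempty_pullback_iso (θ : 𝒜 →+*ᵍ ℬ)
    (hθ : HomogeneousIdeal.irrelevant ℬ ≤ (HomogeneousIdeal.irrelevant 𝒜).map θ) {ι : Type*}
    (t : ι → A) (ht : ∀ i, t i ∈ 𝒜 1) (hcov : ⨆ i, Proj.basicOpen 𝒜 (t i) = ⊤) :
    Nonempty ((Scheme.Modules.pullback (Proj.map θ hθ)).obj (Twist.twist 𝒜 1) ≅ Twist.twist ℬ 1) := by
  have hgen : ∀ i, IsGen ((Scheme.Modules.pullback (Proj.map θ hθ)).obj (Twist.twist 𝒜 1))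
      (Proj.map θ hθ ⁻¹ᵁ Proj.basicOpen 𝒜 (t i)) (pb (Proj.map θ hθ) (frame (ht i))) :=
    fun i => isGen_pb _ (isGen_frame (ht i))
  obtain ⟨e, -⟩ := AmpleLib.exists_iso_of_gen (fun i => Proj.map θ hθ ⁻¹ᵁ Proj.basicOpen 𝒜 (t i))
    (by rw [← Scheme.Hom.preimage_iSup, hcov, Scheme.Hom.preimage_top]) _ hgen
    (fun i => frame (θ.2 (ht i))) (fun i => isGen_frame (θ.2 (ht i)))
    (fun i j V hi hj u hu => by
      have h1 := congrArg (res _ hj) (res_pullSec_self (Proj.map θ hθ) (ht j))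
      have h2 := congrArg (res _ hi) (res_pullSec (Proj.map θ hθ) (ht i) (ht j))
      rw [res_res] at h1
      rw [res_res, res_smul] at h2
      rw [(hgen i).injective hi (hu.symm.trans (h1.symm.trans h2)), appLE_ratio θ hθ (ht i) (ht j)]
      exact res_frame (θ.2 (ht i)) (θ.2 (ht j)) hi hj)
  exact ⟨e⟩

variable {k : Type u} [Field k] {n : ℕ}

/-- The zero scheme of a nonzero section of `O(1)` on `P^{n+1}` is a `P^n`. -/
theorem exists_hyperplane_iso
    (s : Coh.structureModule (CohB1.ProjSpace (n + 1) k) ⟶ Twist.twistProjSpace (n + 1) k 1)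
    (hs : s ≠ 0) :
    ∃ φ : CohB1.ProjSpace n k ≅ (PicF2.zeroScheme _ s).subscheme,
      Nonempty ((Scheme.Modules.pullback (φ.hom ≫ (PicF2.zeroScheme _ s).subschemeι)).obj
          (Twist.twistProjSpace (n + 1) k 1) ≅ Twist.twistProjSpace n k 1) := by
  classical
  obtain ⟨ℓ, hℓ, hσ⟩ := exists_gsec (n + 1) k (sec s ⊤)
  have hℓ0 : ℓ ≠ 0 := by
    intro h
    refine hs ?_
    have h0 : sec s (⊤ : (CohB1.ProjSpace (n + 1) k).Opens) = 0 := hσ.trans (by
      refine sectN_ext fun x => ?_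
      show Localization.mk ℓ _ = 0
      rw [h, Localization.mk_zero])
    ext V a
    show s.app V a = 0
    rw [app_eq, ← sec_res s (le_top : V ≤ ⊤), h0, map_zero, smul_zero]
  obtain ⟨θ, hsurj, hker, -, hirr⟩ := exists_elim ℓ hℓ hℓ0
  let ψ := Proj.map θ hirr
  haveI : IsClosedImmersion ψ := RelProjLib.isClosedImmersion_map θ hirr hsurj
  suffices hK : ψ.ker = PicF2.zeroScheme _ s by
    suffices h : ∀ K, ψ.ker = K → ∃ φ : CohB1.ProjSpace n k ≅ K.subscheme,
        φ.hom ≫ K.subschemeι = ψ by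
      obtain ⟨φ, hφ⟩ := h _ hK
      obtain ⟨e⟩ := nonempty_pullback_iso θ hirr MvPolynomial.X (X_mem_polyGrading (n + 1) k)
        (iSup_stdOpen (n + 1) k)
      exact ⟨φ, ⟨(Scheme.Modules.pullbackCongr hφ).app _ ≪≫ e⟩⟩
    rintro _ rfl
    exact ⟨asIso ψ.toImage, ψ.toImage_imageι⟩
  refine Scheme.IdealSheafData.ext_of_iSup_eq_top
    (fun i : Fin (n + 2) => ⟨stdOpen (n + 1) k i,
      Proj.isAffineOpen_basicOpen _ _ (X_mem_polyGrading (n + 1) k i) one_pos⟩)
    (iSup_stdOpen (n + 1) k) fun i => ?_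
  have hX := X_mem_polyGrading (n + 1) k i
  have hℓ' : ℓ ∈ CohB1.polyGrading (n + 1) k (1 • 1) := by rw [one_smul]; exact hℓ
  have hval : sec s (stdOpen (n + 1) k i) = ratio hX hℓ • frame hX := by
    rw [← sec_res s (le_top : stdOpen (n + 1) k i ≤ ⊤), hσ]
    exact res_gsec hX hℓ
  rw [ZeroSchemeLib.zeroScheme_ideal_eq_span (isInvertible_twistProjSpace _ _ _) s
      ⟨stdOpen (n + 1) k i, _⟩ (isGen_frame hX) hval,
    Scheme.Hom.ker_apply, ← awayToSection_mk_one hX hℓ hℓ']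
  have hiso : IsIso (Proj.awayToSection (CohB1.polyGrading (n + 1) k) (MvPolynomial.X i)) :=
    inferInstanceAs (IsIso (Proj.basicOpenIsoAway (CohB1.polyGrading (n + 1) k) (MvPolynomial.X i)
      hX one_pos).hom)
  have hiso' : IsIso (Proj.awayToSection (CohB1.polyGrading n k) (θ (MvPolynomial.X i))) :=
    inferInstanceAs (IsIso (Proj.basicOpenIsoAway (CohB1.polyGrading n k) (θ (MvPolynomial.X i))
      (θ.2 hX) one_pos).hom)
  have happ : ∀ z, ψ.app (stdOpen (n + 1) k i)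
      ((Proj.awayToSection (CohB1.polyGrading (n + 1) k) (MvPolynomial.X i)).hom z) =
      (Proj.awayToSection (CohB1.polyGrading n k) (θ (MvPolynomial.X i))).hom
        (Away.map θ (MvPolynomial.X i) z) := fun z => by
    rw [Scheme.Hom.app_eq_appLE]
    exact congrArg (fun q => q.hom z) (Proj.awayToSection_comp_appLE θ hirr hX)
  refine le_antisymm (fun c hc => ?_) ?_
  · obtain ⟨z, rfl⟩ := (ConcreteCategory.bijective_of_isIso
      (Proj.awayToSection (CohB1.polyGrading (n + 1) k) (MvPolynomial.X i))).2 c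
    have h0 : Away.map θ (MvPolynomial.X i) z = 0 :=
      (ConcreteCategory.bijective_of_isIso
        (Proj.awayToSection (CohB1.polyGrading n k) (θ (MvPolynomial.X i)))).1
        (((happ z).symm.trans hc).trans (map_zero _).symm)
    have h1 : z ∈ Ideal.span {Away.mk (CohB1.polyGrading (n + 1) k) hX 1 ℓ hℓ'} := by
      rw [← ker_away_map θ hℓ hker hX hℓ']; exact h0
    obtain ⟨w, rfl⟩ := Ideal.mem_span_singleton'.mp h1
    exact Ideal.mem_span_singleton'.mpr ⟨_, (map_mul _ w _).symm⟩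
  · rw [Ideal.span_le, Set.singleton_subset_iff]
    refine (happ _).trans ?_
    have h1 : Away.mk (CohB1.polyGrading (n + 1) k) hX 1 ℓ hℓ' ∈
        RingHom.ker (Away.map θ (MvPolynomial.X i)) := by
      rw [ker_away_map θ hℓ hker hX hℓ']; exact Ideal.mem_span_singleton_self _
    rw [RingHom.mem_ker.mp h1, map_zero]

end Groth.Agent.HyperP

end
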