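import Groth.Agent.ProjTwist.Pn.H0
import Groth.Agent.ProjMorph.Sections
import Groth.Agent.ProperFin.PnBase

/-!
# Global sections of `O(1)` on projective space are linear forms
-/

set_option autoImplicit false
set_option linter.style.haveILetI false
set_option backward.isDefEq.respectTransparency false
set_option backward.isDefEq.respectTransparency.types false

universe u

open CategoryTheory AlgebraicGeometry TopologicalSpace Opposite

noncomputable section

namespace Groth.Agent.HyperP

open Twist MvPolynomial Groth.Agent.ProjTwist Groth.Agent.ProjTwist.Pn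

variable (n : ℕ) (R : Type u) [CommRing R]

lemma mI_singleton (i : Fin (n + 1)) : mI R {i} = (X i : MvPolynomial (Fin (n + 1)) R) := by
  simp [mI_eq_prod]

/-- Every global section of `O(1)` comes from a linear form. -/
theorem exists_gsec (σ : sectN (𝒜 := CohB1.polyGrading n R) (1 : ℤ) (op ⊤)) :
    ∃ (p : MvPolynomial (Fin (n + 1)) R) (hp : p ∈ CohB1.polyGrading n R 1),
      σ = Twist.globalOf (CohB1.polyGrading n R) ⟨p, hp⟩ := by
  classical
  let φ : ∀ I, op (⊤ : Opens (ProjectiveSpectrum.top (CohB1.polyGrading n R))) ⟶ op (dI R I) :=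
    fun I => (homOfLE le_top).op
  let q : Fin (n + 1) → Lau n R := fun i =>
    secLau 1 (Finset.singleton_nonempty i) (resN 1 (φ {i}) σ)
  have hq : ∀ i j, q i = q j := by
    intro i j
    have hi : ({i} : Finset (Fin (n + 1))) ⊆ {i, j} := by simp
    have hj : ({j} : Finset (Fin (n + 1))) ⊆ {i, j} := by simp
    have h1 := secLau_res hi (Finset.singleton_nonempty i) (homOfLE (dI_anti hi)).op
      (resN 1 (φ {i}) σ)
    have h2 := secLau_res hj (Finset.singleton_nonempty j) (homOfLE (dI_anti hj)).op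
      (resN 1 (φ {j}) σ)
    exact h1.symm.trans (Eq.trans rfl h2)
  have hmem : q 0 ∈ lauPart R (1 : ℤ) ∅ := mem_lauPart_empty (Or.inr zero_le_one) fun i => by
    rw [hq 0 i]
    exact secLau_mem _ _ _
  obtain ⟨p, hp⟩ := (polyLau_bijective (n := n) (R := R) 1).2 ⟨q 0, hmem⟩
  have hp' : toLau p.1 = q 0 := congrArg Subtype.val hp
  refine ⟨p.1, p.2, sectN_ext fun x => ?_⟩
  obtain ⟨i, hi⟩ : ∃ i, (X i : MvPolynomial (Fin (n + 1)) R) ∉ x.1.asHomogeneousIdeal := by
    by_contra h
    push Not at h
    refine x.1.not_irrelevant_le ((ProperFin.irrelevant_le_span n).trans ?_)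
    rw [Ideal.span_le]
    rintro _ ⟨j, rfl⟩
    exact h j
  have hx : x.1 ∈ dI (n := n) R {i} := by
    show mI R {i} ∉ x.1.asHomogeneousIdeal
    rw [mI_singleton]; exact hi
  let τ : sectN (𝒜 := CohB1.polyGrading n R) (1 : ℤ) (op (dI R {i})) :=
    resN 1 (φ {i}) (Twist.globalOf (CohB1.polyGrading n R) ⟨p.1, p.2⟩)
  have hτ : IsRep (1 : ℤ) {i} τ 1 0 p.1 :=
    ⟨(mem_homogeneousSubmodule _ _).mp p.2, by simp, fun y => congrArg (Localization.mk p.1) (Subtype.ext (pow_zero (mI R {i})).symm)⟩
  have heq : resN 1 (φ {i}) σ = τ := by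
    refine eq_of_secLau_eq (Finset.singleton_nonempty i) ?_
    rw [secLau_eq (Finset.singleton_nonempty i) hτ]
    refine ((hq i 0).trans hp'.symm).trans ?_
    rw [fracLau, zero_smul, neg_zero]
    exact (mul_one _).symm
  exact congrArg (fun s : sectN (𝒜 := CohB1.polyGrading n R) (1 : ℤ) (op (dI R {i})) =>
    (s.1 ⟨x.1, hx⟩).1) heq

end Groth.Agent.HyperP

end
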